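import Cfsg.Agent.Lib.ToddCox.Fi22C1.Data0
set_option autoImplicit false
set_option maxRecDepth 100000
namespace Cfsg.Agent.Lib.ToddCox.Fi22C1
def eT_1_3 (j : ℕ) : ℕ := bif Nat.blt j 2 then E_1 else E_2
def eT_0_3 (j : ℕ) : ℕ := bif Nat.blt j 1 then E_0 else (eT_1_3 j)
def eT_4_6 (j : ℕ) : ℕ := bif Nat.blt j 5 then E_4 else E_5
def eT_3_6 (j : ℕ) : ℕ := bif Nat.blt j 4 then E_3 else (eT_4_6 j)
def eT_0_6 (j : ℕ) : ℕ := bif Nat.blt j 3 then (eT_0_3 j) else (eT_3_6 j)
def eT_7_9 (j : ℕ) : ℕ := bif Nat.blt j 8 then E_7 else E_8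
def eT_6_9 (j : ℕ) : ℕ := bif Nat.blt j 7 then E_6 else (eT_7_9 j)
def eT_10_12 (j : ℕ) : ℕ := bif Nat.blt j 11 then E_10 else E_11
def eT_9_12 (j : ℕ) : ℕ := bif Nat.blt j 10 then E_9 else (eT_10_12 j)
def eT_6_12 (j : ℕ) : ℕ := bif Nat.blt j 9 then (eT_6_9 j) else (eT_9_12 j)
def eT_0_12 (j : ℕ) : ℕ := bif Nat.blt j 6 then (eT_0_6 j) else (eT_6_12 j)
def eT_13_15 (j : ℕ) : ℕ := bif Nat.blt j 14 then E_13 else E_14
def eT_12_15 (j : ℕ) : ℕ := bif Nat.blt j 13 then E_12 else (eT_13_15 j)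
def eT_16_18 (j : ℕ) : ℕ := bif Nat.blt j 17 then E_16 else E_17
def eT_15_18 (j : ℕ) : ℕ := bif Nat.blt j 16 then E_15 else (eT_16_18 j)
def eT_12_18 (j : ℕ) : ℕ := bif Nat.blt j 15 then (eT_12_15 j) else (eT_15_18 j)
def eT_19_21 (j : ℕ) : ℕ := bif Nat.blt j 20 then E_19 else E_20
def eT_18_21 (j : ℕ) : ℕ := bif Nat.blt j 19 then E_18 else (eT_19_21 j)
def eT_21_23 (j : ℕ) : ℕ := bif Nat.blt j 22 then E_21 else E_22
def eT_23_25 (j : ℕ) : ℕ := bif Nat.blt j 24 then E_23 else E_24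
def eT_21_25 (j : ℕ) : ℕ := bif Nat.blt j 23 then (eT_21_23 j) else (eT_23_25 j)
def eT_18_25 (j : ℕ) : ℕ := bif Nat.blt j 21 then (eT_18_21 j) else (eT_21_25 j)
def eT_12_25 (j : ℕ) : ℕ := bif Nat.blt j 18 then (eT_12_18 j) else (eT_18_25 j)
def eT_0_25 (j : ℕ) : ℕ := bif Nat.blt j 12 then (eT_0_12 j) else (eT_12_25 j)
def eT_26_28 (j : ℕ) : ℕ := bif Nat.blt j 27 then E_26 else E_27
def eT_25_28 (j : ℕ) : ℕ := bif Nat.blt j 26 then E_25 else (eT_26_28 j)
def eT_29_31 (j : ℕ) : ℕ := bif Nat.blt j 30 then E_29 else E_30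
def eT_28_31 (j : ℕ) : ℕ := bif Nat.blt j 29 then E_28 else (eT_29_31 j)
def eT_25_31 (j : ℕ) : ℕ := bif Nat.blt j 28 then (eT_25_28 j) else (eT_28_31 j)
def eT_32_34 (j : ℕ) : ℕ := bif Nat.blt j 33 then E_32 else E_33
def eT_31_34 (j : ℕ) : ℕ := bif Nat.blt j 32 then E_31 else (eT_32_34 j)
def eT_35_37 (j : ℕ) : ℕ := bif Nat.blt j 36 then E_35 else E_36
def eT_34_37 (j : ℕ) : ℕ := bif Nat.blt j 35 then E_34 else (eT_35_37 j)
def eT_31_37 (j : ℕ) : ℕ := bif Nat.blt j 34 then (eT_31_34 j) else (eT_34_37 j)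
def eT_25_37 (j : ℕ) : ℕ := bif Nat.blt j 31 then (eT_25_31 j) else (eT_31_37 j)
def eT_38_40 (j : ℕ) : ℕ := bif Nat.blt j 39 then E_38 else E_39
def eT_37_40 (j : ℕ) : ℕ := bif Nat.blt j 38 then E_37 else (eT_38_40 j)
def eT_41_43 (j : ℕ) : ℕ := bif Nat.blt j 42 then E_41 else E_42
def eT_40_43 (j : ℕ) : ℕ := bif Nat.blt j 41 then E_40 else (eT_41_43 j)
def eT_37_43 (j : ℕ) : ℕ := bif Nat.blt j 40 then (eT_37_40 j) else (eT_40_43 j)
def eT_44_46 (j : ℕ) : ℕ := bif Nat.blt j 45 then E_44 else E_45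
def eT_43_46 (j : ℕ) : ℕ := bif Nat.blt j 44 then E_43 else (eT_44_46 j)
def eT_46_48 (j : ℕ) : ℕ := bif Nat.blt j 47 then E_46 else E_47
def eT_48_50 (j : ℕ) : ℕ := bif Nat.blt j 49 then E_48 else E_49
def eT_46_50 (j : ℕ) : ℕ := bif Nat.blt j 48 then (eT_46_48 j) else (eT_48_50 j)
def eT_43_50 (j : ℕ) : ℕ := bif Nat.blt j 46 then (eT_43_46 j) else (eT_46_50 j)
def eT_37_50 (j : ℕ) : ℕ := bif Nat.blt j 43 then (eT_37_43 j) else (eT_43_50 j)
def eT_25_50 (j : ℕ) : ℕ := bif Nat.blt j 37 then (eT_25_37 j) else (eT_37_50 j)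
def eT_0_50 (j : ℕ) : ℕ := bif Nat.blt j 25 then (eT_0_25 j) else (eT_25_50 j)
def eT_51_53 (j : ℕ) : ℕ := bif Nat.blt j 52 then E_51 else E_52
def eT_50_53 (j : ℕ) : ℕ := bif Nat.blt j 51 then E_50 else (eT_51_53 j)
def eT_54_56 (j : ℕ) : ℕ := bif Nat.blt j 55 then E_54 else E_55
def eT_53_56 (j : ℕ) : ℕ := bif Nat.blt j 54 then E_53 else (eT_54_56 j)
def eT_50_56 (j : ℕ) : ℕ := bif Nat.blt j 53 then (eT_50_53 j) else (eT_53_56 j)
def eT_57_59 (j : ℕ) : ℕ := bif Nat.blt j 58 then E_57 else E_58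
def eT_56_59 (j : ℕ) : ℕ := bif Nat.blt j 57 then E_56 else (eT_57_59 j)
def eT_60_62 (j : ℕ) : ℕ := bif Nat.blt j 61 then E_60 else E_61
def eT_59_62 (j : ℕ) : ℕ := bif Nat.blt j 60 then E_59 else (eT_60_62 j)
def eT_56_62 (j : ℕ) : ℕ := bif Nat.blt j 59 then (eT_56_59 j) else (eT_59_62 j)
def eT_50_62 (j : ℕ) : ℕ := bif Nat.blt j 56 then (eT_50_56 j) else (eT_56_62 j)
def eT_63_65 (j : ℕ) : ℕ := bif Nat.blt j 64 then E_63 else E_64
def eT_62_65 (j : ℕ) : ℕ := bif Nat.blt j 63 then E_62 else (eT_63_65 j)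
def eT_66_68 (j : ℕ) : ℕ := bif Nat.blt j 67 then E_66 else E_67
def eT_65_68 (j : ℕ) : ℕ := bif Nat.blt j 66 then E_65 else (eT_66_68 j)
def eT_62_68 (j : ℕ) : ℕ := bif Nat.blt j 65 then (eT_62_65 j) else (eT_65_68 j)
def eT_69_71 (j : ℕ) : ℕ := bif Nat.blt j 70 then E_69 else E_70
def eT_68_71 (j : ℕ) : ℕ := bif Nat.blt j 69 then E_68 else (eT_69_71 j)
def eT_71_73 (j : ℕ) : ℕ := bif Nat.blt j 72 then E_71 else E_72
def eT_73_75 (j : ℕ) : ℕ := bif Nat.blt j 74 then E_73 else E_74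
def eT_71_75 (j : ℕ) : ℕ := bif Nat.blt j 73 then (eT_71_73 j) else (eT_73_75 j)
def eT_68_75 (j : ℕ) : ℕ := bif Nat.blt j 71 then (eT_68_71 j) else (eT_71_75 j)
def eT_62_75 (j : ℕ) : ℕ := bif Nat.blt j 68 then (eT_62_68 j) else (eT_68_75 j)
def eT_50_75 (j : ℕ) : ℕ := bif Nat.blt j 62 then (eT_50_62 j) else (eT_62_75 j)
def eT_76_78 (j : ℕ) : ℕ := bif Nat.blt j 77 then E_76 else E_77
def eT_75_78 (j : ℕ) : ℕ := bif Nat.blt j 76 then E_75 else (eT_76_78 j)
def eT_79_81 (j : ℕ) : ℕ := bif Nat.blt j 80 then E_79 else E_80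
def eT_78_81 (j : ℕ) : ℕ := bif Nat.blt j 79 then E_78 else (eT_79_81 j)
def eT_75_81 (j : ℕ) : ℕ := bif Nat.blt j 78 then (eT_75_78 j) else (eT_78_81 j)
def eT_82_84 (j : ℕ) : ℕ := bif Nat.blt j 83 then E_82 else E_83
def eT_81_84 (j : ℕ) : ℕ := bif Nat.blt j 82 then E_81 else (eT_82_84 j)
def eT_84_86 (j : ℕ) : ℕ := bif Nat.blt j 85 then E_84 else E_85
def eT_86_88 (j : ℕ) : ℕ := bif Nat.blt j 87 then E_86 else E_87
def eT_84_88 (j : ℕ) : ℕ := bif Nat.blt j 86 then (eT_84_86 j) else (eT_86_88 j)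
def eT_81_88 (j : ℕ) : ℕ := bif Nat.blt j 84 then (eT_81_84 j) else (eT_84_88 j)
def eT_75_88 (j : ℕ) : ℕ := bif Nat.blt j 81 then (eT_75_81 j) else (eT_81_88 j)
def eT_89_91 (j : ℕ) : ℕ := bif Nat.blt j 90 then E_89 else E_90
def eT_88_91 (j : ℕ) : ℕ := bif Nat.blt j 89 then E_88 else (eT_89_91 j)
def eT_92_94 (j : ℕ) : ℕ := bif Nat.blt j 93 then E_92 else E_93
def eT_91_94 (j : ℕ) : ℕ := bif Nat.blt j 92 then E_91 else (eT_92_94 j)
def eT_88_94 (j : ℕ) : ℕ := bif Nat.blt j 91 then (eT_88_91 j) else (eT_91_94 j)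
def eT_95_97 (j : ℕ) : ℕ := bif Nat.blt j 96 then E_95 else E_96
def eT_94_97 (j : ℕ) : ℕ := bif Nat.blt j 95 then E_94 else (eT_95_97 j)
def eT_97_99 (j : ℕ) : ℕ := bif Nat.blt j 98 then E_97 else E_98
def eT_99_101 (j : ℕ) : ℕ := bif Nat.blt j 100 then E_99 else E_100
def eT_97_101 (j : ℕ) : ℕ := bif Nat.blt j 99 then (eT_97_99 j) else (eT_99_101 j)
def eT_94_101 (j : ℕ) : ℕ := bif Nat.blt j 97 then (eT_94_97 j) else (eT_97_101 j)
def eT_88_101 (j : ℕ) : ℕ := bif Nat.blt j 94 then (eT_88_94 j) else (eT_94_101 j)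
def eT_75_101 (j : ℕ) : ℕ := bif Nat.blt j 88 then (eT_75_88 j) else (eT_88_101 j)
def eT_50_101 (j : ℕ) : ℕ := bif Nat.blt j 75 then (eT_50_75 j) else (eT_75_101 j)
def eT_0_101 (j : ℕ) : ℕ := bif Nat.blt j 50 then (eT_0_50 j) else (eT_50_101 j)
def eT_102_104 (j : ℕ) : ℕ := bif Nat.blt j 103 then E_102 else E_103
def eT_101_104 (j : ℕ) : ℕ := bif Nat.blt j 102 then E_101 else (eT_102_104 j)
def eT_105_107 (j : ℕ) : ℕ := bif Nat.blt j 106 then E_105 else E_106
def eT_104_107 (j : ℕ) : ℕ := bif Nat.blt j 105 then E_104 else (eT_105_107 j)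
def eT_101_107 (j : ℕ) : ℕ := bif Nat.blt j 104 then (eT_101_104 j) else (eT_104_107 j)
def eT_108_110 (j : ℕ) : ℕ := bif Nat.blt j 109 then E_108 else E_109
def eT_107_110 (j : ℕ) : ℕ := bif Nat.blt j 108 then E_107 else (eT_108_110 j)
def eT_111_113 (j : ℕ) : ℕ := bif Nat.blt j 112 then E_111 else E_112
def eT_110_113 (j : ℕ) : ℕ := bif Nat.blt j 111 then E_110 else (eT_111_113 j)
def eT_107_113 (j : ℕ) : ℕ := bif Nat.blt j 110 then (eT_107_110 j) else (eT_110_113 j)
def eT_101_113 (j : ℕ) : ℕ := bif Nat.blt j 107 then (eT_101_107 j) else (eT_107_113 j)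
def eT_114_116 (j : ℕ) : ℕ := bif Nat.blt j 115 then E_114 else E_115
def eT_113_116 (j : ℕ) : ℕ := bif Nat.blt j 114 then E_113 else (eT_114_116 j)
def eT_117_119 (j : ℕ) : ℕ := bif Nat.blt j 118 then E_117 else E_118
def eT_116_119 (j : ℕ) : ℕ := bif Nat.blt j 117 then E_116 else (eT_117_119 j)
def eT_113_119 (j : ℕ) : ℕ := bif Nat.blt j 116 then (eT_113_116 j) else (eT_116_119 j)
def eT_120_122 (j : ℕ) : ℕ := bif Nat.blt j 121 then E_120 else E_121
def eT_119_122 (j : ℕ) : ℕ := bif Nat.blt j 120 then E_119 else (eT_120_122 j)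
def eT_122_124 (j : ℕ) : ℕ := bif Nat.blt j 123 then E_122 else E_123
def eT_124_126 (j : ℕ) : ℕ := bif Nat.blt j 125 then E_124 else E_125
def eT_122_126 (j : ℕ) : ℕ := bif Nat.blt j 124 then (eT_122_124 j) else (eT_124_126 j)
def eT_119_126 (j : ℕ) : ℕ := bif Nat.blt j 122 then (eT_119_122 j) else (eT_122_126 j)
def eT_113_126 (j : ℕ) : ℕ := bif Nat.blt j 119 then (eT_113_119 j) else (eT_119_126 j)
def eT_101_126 (j : ℕ) : ℕ := bif Nat.blt j 113 then (eT_101_113 j) else (eT_113_126 j)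
def eT_127_129 (j : ℕ) : ℕ := bif Nat.blt j 128 then E_127 else E_128
def eT_126_129 (j : ℕ) : ℕ := bif Nat.blt j 127 then E_126 else (eT_127_129 j)
def eT_130_132 (j : ℕ) : ℕ := bif Nat.blt j 131 then E_130 else E_131
def eT_129_132 (j : ℕ) : ℕ := bif Nat.blt j 130 then E_129 else (eT_130_132 j)
def eT_126_132 (j : ℕ) : ℕ := bif Nat.blt j 129 then (eT_126_129 j) else (eT_129_132 j)
def eT_133_135 (j : ℕ) : ℕ := bif Nat.blt j 134 then E_133 else E_134
def eT_132_135 (j : ℕ) : ℕ := bif Nat.blt j 133 then E_132 else (eT_133_135 j)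
def eT_136_138 (j : ℕ) : ℕ := bif Nat.blt j 137 then E_136 else E_137
def eT_135_138 (j : ℕ) : ℕ := bif Nat.blt j 136 then E_135 else (eT_136_138 j)
def eT_132_138 (j : ℕ) : ℕ := bif Nat.blt j 135 then (eT_132_135 j) else (eT_135_138 j)
def eT_126_138 (j : ℕ) : ℕ := bif Nat.blt j 132 then (eT_126_132 j) else (eT_132_138 j)
def eT_139_141 (j : ℕ) : ℕ := bif Nat.blt j 140 then E_139 else E_140
def eT_138_141 (j : ℕ) : ℕ := bif Nat.blt j 139 then E_138 else (eT_139_141 j)
def eT_142_144 (j : ℕ) : ℕ := bif Nat.blt j 143 then E_142 else E_143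
def eT_141_144 (j : ℕ) : ℕ := bif Nat.blt j 142 then E_141 else (eT_142_144 j)
def eT_138_144 (j : ℕ) : ℕ := bif Nat.blt j 141 then (eT_138_141 j) else (eT_141_144 j)
def eT_145_147 (j : ℕ) : ℕ := bif Nat.blt j 146 then E_145 else E_146
def eT_144_147 (j : ℕ) : ℕ := bif Nat.blt j 145 then E_144 else (eT_145_147 j)
def eT_147_149 (j : ℕ) : ℕ := bif Nat.blt j 148 then E_147 else E_148
def eT_149_151 (j : ℕ) : ℕ := bif Nat.blt j 150 then E_149 else E_150
def eT_147_151 (j : ℕ) : ℕ := bif Nat.blt j 149 then (eT_147_149 j) else (eT_149_151 j)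
def eT_144_151 (j : ℕ) : ℕ := bif Nat.blt j 147 then (eT_144_147 j) else (eT_147_151 j)
def eT_138_151 (j : ℕ) : ℕ := bif Nat.blt j 144 then (eT_138_144 j) else (eT_144_151 j)
def eT_126_151 (j : ℕ) : ℕ := bif Nat.blt j 138 then (eT_126_138 j) else (eT_138_151 j)
def eT_101_151 (j : ℕ) : ℕ := bif Nat.blt j 126 then (eT_101_126 j) else (eT_126_151 j)
def eT_152_154 (j : ℕ) : ℕ := bif Nat.blt j 153 then E_152 else E_153
def eT_151_154 (j : ℕ) : ℕ := bif Nat.blt j 152 then E_151 else (eT_152_154 j)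
def eT_155_157 (j : ℕ) : ℕ := bif Nat.blt j 156 then E_155 else E_156
def eT_154_157 (j : ℕ) : ℕ := bif Nat.blt j 155 then E_154 else (eT_155_157 j)
def eT_151_157 (j : ℕ) : ℕ := bif Nat.blt j 154 then (eT_151_154 j) else (eT_154_157 j)
def eT_158_160 (j : ℕ) : ℕ := bif Nat.blt j 159 then E_158 else E_159
def eT_157_160 (j : ℕ) : ℕ := bif Nat.blt j 158 then E_157 else (eT_158_160 j)
def eT_161_163 (j : ℕ) : ℕ := bif Nat.blt j 162 then E_161 else E_162
def eT_160_163 (j : ℕ) : ℕ := bif Nat.blt j 161 then E_160 else (eT_161_163 j)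
def eT_157_163 (j : ℕ) : ℕ := bif Nat.blt j 160 then (eT_157_160 j) else (eT_160_163 j)
def eT_151_163 (j : ℕ) : ℕ := bif Nat.blt j 157 then (eT_151_157 j) else (eT_157_163 j)
def eT_164_166 (j : ℕ) : ℕ := bif Nat.blt j 165 then E_164 else E_165
def eT_163_166 (j : ℕ) : ℕ := bif Nat.blt j 164 then E_163 else (eT_164_166 j)
def eT_167_169 (j : ℕ) : ℕ := bif Nat.blt j 168 then E_167 else E_168
def eT_166_169 (j : ℕ) : ℕ := bif Nat.blt j 167 then E_166 else (eT_167_169 j)
def eT_163_169 (j : ℕ) : ℕ := bif Nat.blt j 166 then (eT_163_166 j) else (eT_166_169 j)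
def eT_170_172 (j : ℕ) : ℕ := bif Nat.blt j 171 then E_170 else E_171
def eT_169_172 (j : ℕ) : ℕ := bif Nat.blt j 170 then E_169 else (eT_170_172 j)
def eT_172_174 (j : ℕ) : ℕ := bif Nat.blt j 173 then E_172 else E_173
def eT_174_176 (j : ℕ) : ℕ := bif Nat.blt j 175 then E_174 else E_175
def eT_172_176 (j : ℕ) : ℕ := bif Nat.blt j 174 then (eT_172_174 j) else (eT_174_176 j)
def eT_169_176 (j : ℕ) : ℕ := bif Nat.blt j 172 then (eT_169_172 j) else (eT_172_176 j)
def eT_163_176 (j : ℕ) : ℕ := bif Nat.blt j 169 then (eT_163_169 j) else (eT_169_176 j)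
def eT_151_176 (j : ℕ) : ℕ := bif Nat.blt j 163 then (eT_151_163 j) else (eT_163_176 j)
def eT_177_179 (j : ℕ) : ℕ := bif Nat.blt j 178 then E_177 else E_178
def eT_176_179 (j : ℕ) : ℕ := bif Nat.blt j 177 then E_176 else (eT_177_179 j)
def eT_180_182 (j : ℕ) : ℕ := bif Nat.blt j 181 then E_180 else E_181
def eT_179_182 (j : ℕ) : ℕ := bif Nat.blt j 180 then E_179 else (eT_180_182 j)
def eT_176_182 (j : ℕ) : ℕ := bif Nat.blt j 179 then (eT_176_179 j) else (eT_179_182 j)
def eT_183_185 (j : ℕ) : ℕ := bif Nat.blt j 184 then E_183 else E_184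
def eT_182_185 (j : ℕ) : ℕ := bif Nat.blt j 183 then E_182 else (eT_183_185 j)
def eT_185_187 (j : ℕ) : ℕ := bif Nat.blt j 186 then E_185 else E_186
def eT_187_189 (j : ℕ) : ℕ := bif Nat.blt j 188 then E_187 else E_188
def eT_185_189 (j : ℕ) : ℕ := bif Nat.blt j 187 then (eT_185_187 j) else (eT_187_189 j)
def eT_182_189 (j : ℕ) : ℕ := bif Nat.blt j 185 then (eT_182_185 j) else (eT_185_189 j)
def eT_176_189 (j : ℕ) : ℕ := bif Nat.blt j 182 then (eT_176_182 j) else (eT_182_189 j)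
def eT_190_192 (j : ℕ) : ℕ := bif Nat.blt j 191 then E_190 else E_191
def eT_189_192 (j : ℕ) : ℕ := bif Nat.blt j 190 then E_189 else (eT_190_192 j)
def eT_193_195 (j : ℕ) : ℕ := bif Nat.blt j 194 then E_193 else E_194
def eT_192_195 (j : ℕ) : ℕ := bif Nat.blt j 193 then E_192 else (eT_193_195 j)
def eT_189_195 (j : ℕ) : ℕ := bif Nat.blt j 192 then (eT_189_192 j) else (eT_192_195 j)
def eT_196_198 (j : ℕ) : ℕ := bif Nat.blt j 197 then E_196 else E_197
def eT_195_198 (j : ℕ) : ℕ := bif Nat.blt j 196 then E_195 else (eT_196_198 j)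
def eT_198_200 (j : ℕ) : ℕ := bif Nat.blt j 199 then E_198 else E_199
def eT_200_202 (j : ℕ) : ℕ := bif Nat.blt j 201 then E_200 else E_201
def eT_198_202 (j : ℕ) : ℕ := bif Nat.blt j 200 then (eT_198_200 j) else (eT_200_202 j)
def eT_195_202 (j : ℕ) : ℕ := bif Nat.blt j 198 then (eT_195_198 j) else (eT_198_202 j)
def eT_189_202 (j : ℕ) : ℕ := bif Nat.blt j 195 then (eT_189_195 j) else (eT_195_202 j)
def eT_176_202 (j : ℕ) : ℕ := bif Nat.blt j 189 then (eT_176_189 j) else (eT_189_202 j)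
def eT_151_202 (j : ℕ) : ℕ := bif Nat.blt j 176 then (eT_151_176 j) else (eT_176_202 j)
def eT_101_202 (j : ℕ) : ℕ := bif Nat.blt j 151 then (eT_101_151 j) else (eT_151_202 j)
def eT_0_202 (j : ℕ) : ℕ := bif Nat.blt j 101 then (eT_0_101 j) else (eT_101_202 j)
def eT (j : ℕ) : ℕ := (eT_0_202 j)
noncomputable def chunkF (h : ℕ) : ℕ := Nat.rec (motive := fun _ => ℕ) (eT 0) (fun n _ => eT (Nat.succ n)) h
noncomputable def Eo (r : ℕ) : ℕ := Nat.land (Nat.shiftRight (chunkF (Nat.shiftRight r 8)) (Nat.mul (Nat.land r 255) 54)) 18014398509481983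
def invT : ℕ := 0xffef7cefae78df6d74cf2c70beeb6caeaa689e69648e28607de75c6da6585d65544d24503ce34c2c92881c61440c2040
def inv (y : ℕ) : ℕ := invOf invT y
def Wt_1_3 (j : ℕ) : List ℕ := bif Nat.blt j 2 then [nat_lit 2, nat_lit 8, nat_lit 2, nat_lit 8] else [nat_lit 3, nat_lit 8, nat_lit 3, nat_lit 8]
def Wt_0_3 (j : ℕ) : List ℕ := bif Nat.blt j 1 then [nat_lit 1, nat_lit 8, nat_lit 1, nat_lit 8] else (Wt_1_3 j)
def Wt_4_6 (j : ℕ) : List ℕ := bif Nat.blt j 5 then [nat_lit 5, nat_lit 8, nat_lit 5, nat_lit 8] else [nat_lit 6, nat_lit 8, nat_lit 6, nat_lit 8]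
def Wt_3_6 (j : ℕ) : List ℕ := bif Nat.blt j 4 then [nat_lit 4, nat_lit 8, nat_lit 4, nat_lit 8] else (Wt_4_6 j)
def Wt_0_6 (j : ℕ) : List ℕ := bif Nat.blt j 3 then (Wt_0_3 j) else (Wt_3_6 j)
def Wt_7_9 (j : ℕ) : List ℕ := bif Nat.blt j 8 then [nat_lit 2, nat_lit 7, nat_lit 2, nat_lit 7] else [nat_lit 4, nat_lit 7, nat_lit 4, nat_lit 7]
def Wt_6_9 (j : ℕ) : List ℕ := bif Nat.blt j 7 then [nat_lit 1, nat_lit 7, nat_lit 1, nat_lit 7] else (Wt_7_9 j)
def Wt_9_11 (j : ℕ) : List ℕ := bif Nat.blt j 10 then [nat_lit 5, nat_lit 7, nat_lit 5, nat_lit 7] else [nat_lit 6, nat_lit 7, nat_lit 6, nat_lit 7]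
def Wt_11_13 (j : ℕ) : List ℕ := bif Nat.blt j 12 then [nat_lit 8, nat_lit 7, nat_lit 8, nat_lit 7, nat_lit 8, nat_lit 7] else [nat_lit 1, nat_lit 3, nat_lit 1, nat_lit 3]
def Wt_9_13 (j : ℕ) : List ℕ := bif Nat.blt j 11 then (Wt_9_11 j) else (Wt_11_13 j)
def Wt_6_13 (j : ℕ) : List ℕ := bif Nat.blt j 9 then (Wt_6_9 j) else (Wt_9_13 j)
def Wt_0_13 (j : ℕ) : List ℕ := bif Nat.blt j 6 then (Wt_0_6 j) else (Wt_6_13 j)
def Wt_14_16 (j : ℕ) : List ℕ := bif Nat.blt j 15 then [nat_lit 6, nat_lit 3, nat_lit 6, nat_lit 3] else [nat_lit 7, nat_lit 3, nat_lit 7, nat_lit 3, nat_lit 7, nat_lit 3]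
def Wt_13_16 (j : ℕ) : List ℕ := bif Nat.blt j 14 then [nat_lit 5, nat_lit 3, nat_lit 5, nat_lit 3] else (Wt_14_16 j)
def Wt_17_19 (j : ℕ) : List ℕ := bif Nat.blt j 18 then [nat_lit 3, nat_lit 2, nat_lit 3, nat_lit 2, nat_lit 3, nat_lit 2] else [nat_lit 5, nat_lit 2, nat_lit 5, nat_lit 2]
def Wt_16_19 (j : ℕ) : List ℕ := bif Nat.blt j 17 then [nat_lit 8, nat_lit 3, nat_lit 8, nat_lit 3] else (Wt_17_19 j)
def Wt_13_19 (j : ℕ) : List ℕ := bif Nat.blt j 16 then (Wt_13_16 j) else (Wt_16_19 j)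
def Wt_20_22 (j : ℕ) : List ℕ := bif Nat.blt j 21 then [nat_lit 7, nat_lit 2, nat_lit 7, nat_lit 2] else [nat_lit 8, nat_lit 2, nat_lit 8, nat_lit 2]
def Wt_19_22 (j : ℕ) : List ℕ := bif Nat.blt j 20 then [nat_lit 6, nat_lit 2, nat_lit 6, nat_lit 2] else (Wt_20_22 j)
def Wt_22_24 (j : ℕ) : List ℕ := bif Nat.blt j 23 then [nat_lit 1, nat_lit 4, nat_lit 1, nat_lit 4] else [nat_lit 3, nat_lit 4, nat_lit 3, nat_lit 4, nat_lit 3, nat_lit 4]
def Wt_24_26 (j : ℕ) : List ℕ := bif Nat.blt j 25 then [nat_lit 6, nat_lit 4, nat_lit 6, nat_lit 4] else [nat_lit 7, nat_lit 4, nat_lit 7, nat_lit 4]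
def Wt_22_26 (j : ℕ) : List ℕ := bif Nat.blt j 24 then (Wt_22_24 j) else (Wt_24_26 j)
def Wt_19_26 (j : ℕ) : List ℕ := bif Nat.blt j 22 then (Wt_19_22 j) else (Wt_22_26 j)
def Wt_13_26 (j : ℕ) : List ℕ := bif Nat.blt j 19 then (Wt_13_19 j) else (Wt_19_26 j)
def Wt_0_26 (j : ℕ) : List ℕ := bif Nat.blt j 13 then (Wt_0_13 j) else (Wt_13_26 j)
def Wt_27_29 (j : ℕ) : List ℕ := bif Nat.blt j 28 then [nat_lit 2, nat_lit 1, nat_lit 2, nat_lit 1, nat_lit 2, nat_lit 1] else [nat_lit 3, nat_lit 1, nat_lit 3, nat_lit 1]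
def Wt_26_29 (j : ℕ) : List ℕ := bif Nat.blt j 27 then [nat_lit 8, nat_lit 4, nat_lit 8, nat_lit 4] else (Wt_27_29 j)
def Wt_30_32 (j : ℕ) : List ℕ := bif Nat.blt j 31 then [nat_lit 6, nat_lit 1, nat_lit 6, nat_lit 1] else [nat_lit 7, nat_lit 1, nat_lit 7, nat_lit 1]
def Wt_29_32 (j : ℕ) : List ℕ := bif Nat.blt j 30 then [nat_lit 5, nat_lit 1, nat_lit 5, nat_lit 1] else (Wt_30_32 j)
def Wt_26_32 (j : ℕ) : List ℕ := bif Nat.blt j 29 then (Wt_26_29 j) else (Wt_29_32 j)
def Wt_33_35 (j : ℕ) : List ℕ := bif Nat.blt j 34 then [nat_lit 2, nat_lit 4, nat_lit 2, nat_lit 4] else [nat_lit 1, nat_lit 5, nat_lit 1, nat_lit 5]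
def Wt_32_35 (j : ℕ) : List ℕ := bif Nat.blt j 33 then [nat_lit 8, nat_lit 1, nat_lit 8, nat_lit 1] else (Wt_33_35 j)
def Wt_35_37 (j : ℕ) : List ℕ := bif Nat.blt j 36 then [nat_lit 3, nat_lit 5, nat_lit 3, nat_lit 5] else [nat_lit 4, nat_lit 5, nat_lit 4, nat_lit 5, nat_lit 4, nat_lit 5]
def Wt_37_39 (j : ℕ) : List ℕ := bif Nat.blt j 38 then [nat_lit 7, nat_lit 5, nat_lit 7, nat_lit 5] else [nat_lit 8, nat_lit 5, nat_lit 8, nat_lit 5]
def Wt_35_39 (j : ℕ) : List ℕ := bif Nat.blt j 37 then (Wt_35_37 j) else (Wt_37_39 j)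
def Wt_32_39 (j : ℕ) : List ℕ := bif Nat.blt j 35 then (Wt_32_35 j) else (Wt_35_39 j)
def Wt_26_39 (j : ℕ) : List ℕ := bif Nat.blt j 32 then (Wt_26_32 j) else (Wt_32_39 j)
def Wt_40_42 (j : ℕ) : List ℕ := bif Nat.blt j 41 then [nat_lit 4, nat_lit 3, nat_lit 4, nat_lit 3, nat_lit 4, nat_lit 3] else [nat_lit 2, nat_lit 5, nat_lit 2, nat_lit 5]
def Wt_39_42 (j : ℕ) : List ℕ := bif Nat.blt j 40 then [nat_lit 2, nat_lit 3, nat_lit 2, nat_lit 3, nat_lit 2, nat_lit 3] else (Wt_40_42 j)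
def Wt_43_45 (j : ℕ) : List ℕ := bif Nat.blt j 44 then [nat_lit 3, nat_lit 6, nat_lit 3, nat_lit 6] else [nat_lit 4, nat_lit 6, nat_lit 4, nat_lit 6]
def Wt_42_45 (j : ℕ) : List ℕ := bif Nat.blt j 43 then [nat_lit 1, nat_lit 6, nat_lit 1, nat_lit 6] else (Wt_43_45 j)
def Wt_39_45 (j : ℕ) : List ℕ := bif Nat.blt j 42 then (Wt_39_42 j) else (Wt_42_45 j)
def Wt_46_48 (j : ℕ) : List ℕ := bif Nat.blt j 47 then [nat_lit 7, nat_lit 6, nat_lit 7, nat_lit 6] else [nat_lit 8, nat_lit 6, nat_lit 8, nat_lit 6]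
def Wt_45_48 (j : ℕ) : List ℕ := bif Nat.blt j 46 then [nat_lit 5, nat_lit 6, nat_lit 5, nat_lit 6, nat_lit 5, nat_lit 6] else (Wt_46_48 j)
def Wt_48_50 (j : ℕ) : List ℕ := bif Nat.blt j 49 then [nat_lit 3, nat_lit 7, nat_lit 3, nat_lit 7, nat_lit 3, nat_lit 7] else [nat_lit 2, nat_lit 6, nat_lit 2, nat_lit 6]
def Wt_50_52 (j : ℕ) : List ℕ := bif Nat.blt j 51 then [nat_lit 1, nat_lit 2, nat_lit 1, nat_lit 2, nat_lit 1, nat_lit 2] else [nat_lit 4, nat_lit 2, nat_lit 4, nat_lit 2]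
def Wt_48_52 (j : ℕ) : List ℕ := bif Nat.blt j 50 then (Wt_48_50 j) else (Wt_50_52 j)
def Wt_45_52 (j : ℕ) : List ℕ := bif Nat.blt j 48 then (Wt_45_48 j) else (Wt_48_52 j)
def Wt_39_52 (j : ℕ) : List ℕ := bif Nat.blt j 45 then (Wt_39_45 j) else (Wt_45_52 j)
def Wt_26_52 (j : ℕ) : List ℕ := bif Nat.blt j 39 then (Wt_26_39 j) else (Wt_39_52 j)
def Wt_0_52 (j : ℕ) : List ℕ := bif Nat.blt j 26 then (Wt_0_26 j) else (Wt_26_52 j)
def Wt_53_55 (j : ℕ) : List ℕ := bif Nat.blt j 54 then [nat_lit 7, nat_lit 8, nat_lit 7, nat_lit 8, nat_lit 7, nat_lit 8] else [nat_lit 6, nat_lit 5, nat_lit 6, nat_lit 5, nat_lit 6, nat_lit 5]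
def Wt_52_55 (j : ℕ) : List ℕ := bif Nat.blt j 53 then [nat_lit 5, nat_lit 4, nat_lit 5, nat_lit 4, nat_lit 5, nat_lit 4] else (Wt_53_55 j)
def Wt_56_58 (j : ℕ) : List ℕ := bif Nat.blt j 57 then [nat_lit 7, nat_lit 1, nat_lit 2, nat_lit 3, nat_lit 4, nat_lit 5, nat_lit 6, nat_lit 7, nat_lit 1, nat_lit 2, nat_lit 3, nat_lit 4, nat_lit 5, nat_lit 6, nat_lit 7, nat_lit 1, nat_lit 2, nat_lit 3, nat_lit 4, nat_lit 5, nat_lit 6, nat_lit 7, nat_lit 1, nat_lit 2, nat_lit 3, nat_lit 4, nat_lit 5, nat_lit 6, nat_lit 7, nat_lit 1, nat_lit 2, nat_lit 3, nat_lit 4, nat_lit 5, nat_lit 6, nat_lit 7, nat_lit 1, nat_lit 2, nat_lit 3, nat_lit 4, nat_lit 5, nat_lit 6, nat_lit 7, nat_lit 1, nat_lit 2, nat_lit 3, nat_lit 4, nat_lit 5, nat_lit 6, nat_lit 7, nat_lit 1, nat_lit 2, nat_lit 3, nat_lit 4, nat_lit 5, nat_lit 6, nat_lit 7, nat_lit 1, nat_lit 2, nat_lit 3, nat_lit 4, nat_lit 5, nat_lit 6] else [nat_lit 3, nat_lit 2, nat_lit 1, nat_lit 7, nat_lit 6, nat_lit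 5, nat_lit 4, nat_lit 3, nat_lit 2, nat_lit 1, nat_lit 7, nat_lit 6, nat_lit 5, nat_lit 4, nat_lit 3, nat_lit 2, nat_lit 1, nat_lit 7, nat_lit 6, nat_lit 5, nat_lit 4, nat_lit 3, nat_lit 2, nat_lit 1, nat_lit 7, nat_lit 6, nat_lit 5, nat_lit 4, nat_lit 3, nat_lit 2, nat_lit 1, nat_lit 7, nat_lit 6, nat_lit 5, nat_lit 4, nat_lit 3, nat_lit 2, nat_lit 1, nat_lit 7, nat_lit 6, nat_lit 5, nat_lit 4, nat_lit 3, nat_lit 2, nat_lit 1, nat_lit 7, nat_lit 6, nat_lit 5, nat_lit 4, nat_lit 3, nat_lit 2, nat_lit 1, nat_lit 7, nat_lit 6, nat_lit 5, nat_lit 4, nat_lit 3, nat_lit 2, nat_lit 1, nat_lit 7, nat_lit 6, nat_lit 5, nat_lit 4]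
def Wt_55_58 (j : ℕ) : List ℕ := bif Nat.blt j 56 then [nat_lit 4, nat_lit 1, nat_lit 4, nat_lit 1] else (Wt_56_58 j)
def Wt_52_58 (j : ℕ) : List ℕ := bif Nat.blt j 55 then (Wt_52_55 j) else (Wt_55_58 j)
def Wt_59_61 (j : ℕ) : List ℕ := bif Nat.blt j 60 then [nat_lit 5, nat_lit 4, nat_lit 3, nat_lit 2, nat_lit 1, nat_lit 7, nat_lit 6, nat_lit 5, nat_lit 4, nat_lit 3, nat_lit 2, nat_lit 1, nat_lit 7, nat_lit 6, nat_lit 5, nat_lit 4, nat_lit 3, nat_lit 2, nat_lit 1, nat_lit 7, nat_lit 6, nat_lit 5, nat_lit 4, nat_lit 3, nat_lit 2, nat_lit 1, nat_lit 7, nat_lit 6, nat_lit 5, nat_lit 4, nat_lit 3, nat_lit 2, nat_lit 1, nat_lit 7, nat_lit 6, nat_lit 5, nat_lit 4, nat_lit 3, nat_lit 2, nat_lit 1, nat_lit 7, nat_lit 6, nat_lit 5, nat_lit 4, nat_lit 3, nat_lit 2, nat_lit 1, nat_lit 7, nat_lit 6, nat_lit 5, nat_lit 4, nat_lit 3, nat_lit 2, nat_lit 1, nat_lit 7, nat_lit 6, nat_lit 5, nat_lit 4, nat_lit 3, nat_lit 2, nat_lit 1, nat_lit 7, nat_lit 6] else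 [nat_lit 3, nat_lit 5, nat_lit 4, nat_lit 3, nat_lit 1, nat_lit 2, nat_lit 3, nat_lit 8, nat_lit 7, nat_lit 3, nat_lit 5, nat_lit 4, nat_lit 3, nat_lit 1, nat_lit 2, nat_lit 3, nat_lit 8, nat_lit 7, nat_lit 3, nat_lit 5, nat_lit 4, nat_lit 3, nat_lit 1, nat_lit 2, nat_lit 3, nat_lit 8, nat_lit 7, nat_lit 3, nat_lit 5, nat_lit 4, nat_lit 3, nat_lit 1, nat_lit 2, nat_lit 3, nat_lit 8, nat_lit 7, nat_lit 3, nat_lit 5, nat_lit 4, nat_lit 3, nat_lit 1, nat_lit 2, nat_lit 3, nat_lit 8, nat_lit 7, nat_lit 3, nat_lit 5, nat_lit 4, nat_lit 3, nat_lit 1, nat_lit 2, nat_lit 3, nat_lit 8, nat_lit 7, nat_lit 3, nat_lit 5, nat_lit 4, nat_lit 3, nat_lit 1, nat_lit 2, nat_lit 3, nat_lit 8, nat_lit 7, nat_lit 3, nat_lit 5, nat_lit 4, nat_lit 3, nat_lit 1, nat_lit 2, nat_lit 3, nat_lit 8, nat_lit 7, nat_lit 3, nat_lit 5, nat_lit 4, nat_lit 3, nat_lit 1, nat_lit 2, nat_lit 3, nat_lit 8, nat_lit 7, nat_lit 3, nat_lit 5, nat_lit 4, nat_lit 3, nat_lit 1, nat_lit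 2, nat_lit 3, nat_lit 8, nat_lit 7]
def Wt_58_61 (j : ℕ) : List ℕ := bif Nat.blt j 59 then [nat_lit 6, nat_lit 7, nat_lit 1, nat_lit 2, nat_lit 3, nat_lit 4, nat_lit 5, nat_lit 6, nat_lit 7, nat_lit 1, nat_lit 2, nat_lit 3, nat_lit 4, nat_lit 5, nat_lit 6, nat_lit 7, nat_lit 1, nat_lit 2, nat_lit 3, nat_lit 4, nat_lit 5, nat_lit 6, nat_lit 7, nat_lit 1, nat_lit 2, nat_lit 3, nat_lit 4, nat_lit 5, nat_lit 6, nat_lit 7, nat_lit 1, nat_lit 2, nat_lit 3, nat_lit 4, nat_lit 5, nat_lit 6, nat_lit 7, nat_lit 1, nat_lit 2, nat_lit 3, nat_lit 4, nat_lit 5, nat_lit 6, nat_lit 7, nat_lit 1, nat_lit 2, nat_lit 3, nat_lit 4, nat_lit 5, nat_lit 6, nat_lit 7, nat_lit 1, nat_lit 2, nat_lit 3, nat_lit 4, nat_lit 5, nat_lit 6, nat_lit 7, nat_lit 1, nat_lit 2, nat_lit 3, nat_lit 4, nat_lit 5] else (Wt_59_61 j)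
def Wt_61_63 (j : ℕ) : List ℕ := bif Nat.blt j 62 then [nat_lit 63, nat_lit 7, nat_lit 3, nat_lit 5, nat_lit 4, nat_lit 3, nat_lit 1, nat_lit 2, nat_lit 3, nat_lit 8, nat_lit 7, nat_lit 3, nat_lit 5, nat_lit 4, nat_lit 3, nat_lit 1, nat_lit 2, nat_lit 3, nat_lit 8, nat_lit 7, nat_lit 3, nat_lit 5, nat_lit 4, nat_lit 3, nat_lit 1, nat_lit 2, nat_lit 3, nat_lit 8, nat_lit 7, nat_lit 3, nat_lit 5, nat_lit 4, nat_lit 3, nat_lit 1, nat_lit 2, nat_lit 3, nat_lit 8, nat_lit 7, nat_lit 3, nat_lit 5, nat_lit 4, nat_lit 3, nat_lit 1, nat_lit 2, nat_lit 3, nat_lit 8, nat_lit 7, nat_lit 3, nat_lit 5, nat_lit 4, nat_lit 3, nat_lit 1, nat_lit 2, nat_lit 3, nat_lit 8, nat_lit 7, nat_lit 3, nat_lit 5, nat_lit 4, nat_lit 3, nat_lit 1, nat_lit 2, nat_lit 3, nat_lit 8, nat_lit 7, nat_lit 3, nat_lit 5, nat_lit 4, nat_lit 3, nat_lit 1, nat_lit 2, nat_lit 3, nat_lit 8, nat_lit 7, nat_lit 3, nat_lit 5, nat_lit 4, nat_lit 3, nat_lit 1, nat_lit 2, nat_lit 3, nat_lit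 8, nat_lit 7, nat_lit 3, nat_lit 5, nat_lit 4, nat_lit 3, nat_lit 1, nat_lit 2, nat_lit 3, nat_lit 8] else [nat_lit 63, nat_lit 1, nat_lit 63, nat_lit 1, nat_lit 63]
def Wt_63_65 (j : ℕ) : List ℕ := bif Nat.blt j 64 then [nat_lit 63, nat_lit 2, nat_lit 63, nat_lit 2] else [nat_lit 63, nat_lit 4, nat_lit 63, nat_lit 4]
def Wt_61_65 (j : ℕ) : List ℕ := bif Nat.blt j 63 then (Wt_61_63 j) else (Wt_63_65 j)
def Wt_58_65 (j : ℕ) : List ℕ := bif Nat.blt j 61 then (Wt_58_61 j) else (Wt_61_65 j)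
def Wt_52_65 (j : ℕ) : List ℕ := bif Nat.blt j 58 then (Wt_52_58 j) else (Wt_58_65 j)
def Wt_66_68 (j : ℕ) : List ℕ := bif Nat.blt j 67 then [nat_lit 63, nat_lit 5, nat_lit 63, nat_lit 5] else [nat_lit 63, nat_lit 6, nat_lit 63, nat_lit 6]
def Wt_65_68 (j : ℕ) : List ℕ := bif Nat.blt j 66 then [nat_lit 63, nat_lit 1, nat_lit 63, nat_lit 1] else (Wt_66_68 j)
def Wt_69_71 (j : ℕ) : List ℕ := bif Nat.blt j 70 then [nat_lit 63, nat_lit 3, nat_lit 63, nat_lit 3] else [nat_lit 63, nat_lit 7, nat_lit 63, nat_lit 7]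
def Wt_68_71 (j : ℕ) : List ℕ := bif Nat.blt j 69 then [nat_lit 63, nat_lit 8, nat_lit 63, nat_lit 8] else (Wt_69_71 j)
def Wt_65_71 (j : ℕ) : List ℕ := bif Nat.blt j 68 then (Wt_65_68 j) else (Wt_68_71 j)
def Wt_72_74 (j : ℕ) : List ℕ := bif Nat.blt j 73 then [nat_lit 63, nat_lit 4, nat_lit 63, nat_lit 4, nat_lit 63] else [nat_lit 63, nat_lit 2, nat_lit 63, nat_lit 2, nat_lit 63]
def Wt_71_74 (j : ℕ) : List ℕ := bif Nat.blt j 72 then [nat_lit 63, nat_lit 63, nat_lit 63] else (Wt_72_74 j)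
def Wt_74_76 (j : ℕ) : List ℕ := bif Nat.blt j 75 then [nat_lit 63, nat_lit 5, nat_lit 63, nat_lit 5, nat_lit 63] else [nat_lit 63, nat_lit 8, nat_lit 63, nat_lit 8, nat_lit 63]
def Wt_76_78 (j : ℕ) : List ℕ := bif Nat.blt j 77 then [nat_lit 63, nat_lit 6, nat_lit 63, nat_lit 6, nat_lit 63] else [nat_lit 63, nat_lit 63, nat_lit 4, nat_lit 63, nat_lit 4]
def Wt_74_78 (j : ℕ) : List ℕ := bif Nat.blt j 76 then (Wt_74_76 j) else (Wt_76_78 j)
def Wt_71_78 (j : ℕ) : List ℕ := bif Nat.blt j 74 then (Wt_71_74 j) else (Wt_74_78 j)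
def Wt_65_78 (j : ℕ) : List ℕ := bif Nat.blt j 71 then (Wt_65_71 j) else (Wt_71_78 j)
def Wt_52_78 (j : ℕ) : List ℕ := bif Nat.blt j 65 then (Wt_52_65 j) else (Wt_65_78 j)
def Wt_79_81 (j : ℕ) : List ℕ := bif Nat.blt j 80 then [nat_lit 63, nat_lit 3, nat_lit 63, nat_lit 3, nat_lit 63] else [nat_lit 63, nat_lit 63, nat_lit 2, nat_lit 63, nat_lit 2]
def Wt_78_81 (j : ℕ) : List ℕ := bif Nat.blt j 79 then [nat_lit 2, nat_lit 2, nat_lit 63] else (Wt_79_81 j)
def Wt_82_84 (j : ℕ) : List ℕ := bif Nat.blt j 83 then [nat_lit 63, nat_lit 63, nat_lit 3, nat_lit 63, nat_lit 3] else [nat_lit 3, nat_lit 3, nat_lit 63]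
def Wt_81_84 (j : ℕ) : List ℕ := bif Nat.blt j 82 then [nat_lit 1, nat_lit 1, nat_lit 63] else (Wt_82_84 j)
def Wt_78_84 (j : ℕ) : List ℕ := bif Nat.blt j 81 then (Wt_78_81 j) else (Wt_81_84 j)
def Wt_85_87 (j : ℕ) : List ℕ := bif Nat.blt j 86 then [nat_lit 5, nat_lit 5, nat_lit 63] else [nat_lit 4, nat_lit 4, nat_lit 63]
def Wt_84_87 (j : ℕ) : List ℕ := bif Nat.blt j 85 then [nat_lit 63, nat_lit 7, nat_lit 63, nat_lit 7, nat_lit 63] else (Wt_85_87 j)
def Wt_87_89 (j : ℕ) : List ℕ := bif Nat.blt j 88 then [nat_lit 6, nat_lit 6, nat_lit 63] else [nat_lit 63, nat_lit 63, nat_lit 5, nat_lit 63, nat_lit 5]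
def Wt_89_91 (j : ℕ) : List ℕ := bif Nat.blt j 90 then [nat_lit 7, nat_lit 7, nat_lit 63] else [nat_lit 63, nat_lit 63, nat_lit 1, nat_lit 63, nat_lit 1]
def Wt_87_91 (j : ℕ) : List ℕ := bif Nat.blt j 89 then (Wt_87_89 j) else (Wt_89_91 j)
def Wt_84_91 (j : ℕ) : List ℕ := bif Nat.blt j 87 then (Wt_84_87 j) else (Wt_87_91 j)
def Wt_78_91 (j : ℕ) : List ℕ := bif Nat.blt j 84 then (Wt_78_84 j) else (Wt_84_91 j)
def Wt_92_94 (j : ℕ) : List ℕ := bif Nat.blt j 93 then [nat_lit 8, nat_lit 8, nat_lit 63] else [nat_lit 63, nat_lit 63, nat_lit 7, nat_lit 63, nat_lit 7]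
def Wt_91_94 (j : ℕ) : List ℕ := bif Nat.blt j 92 then [nat_lit 63, nat_lit 63, nat_lit 6, nat_lit 63, nat_lit 6] else (Wt_92_94 j)
def Wt_94_96 (j : ℕ) : List ℕ := bif Nat.blt j 95 then [nat_lit 63, nat_lit 63, nat_lit 8, nat_lit 63, nat_lit 8] else [nat_lit 63, nat_lit 63, nat_lit 4, nat_lit 63, nat_lit 4, nat_lit 63]
def Wt_96_98 (j : ℕ) : List ℕ := bif Nat.blt j 97 then [nat_lit 5, nat_lit 63, nat_lit 5, nat_lit 63] else [nat_lit 7, nat_lit 63, nat_lit 7, nat_lit 63]
def Wt_94_98 (j : ℕ) : List ℕ := bif Nat.blt j 96 then (Wt_94_96 j) else (Wt_96_98 j)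
def Wt_91_98 (j : ℕ) : List ℕ := bif Nat.blt j 94 then (Wt_91_94 j) else (Wt_94_98 j)
def Wt_99_101 (j : ℕ) : List ℕ := bif Nat.blt j 100 then [nat_lit 63, nat_lit 7, nat_lit 3, nat_lit 7, nat_lit 3, nat_lit 7, nat_lit 3] else [nat_lit 5, nat_lit 6, nat_lit 7, nat_lit 1, nat_lit 2, nat_lit 3, nat_lit 4, nat_lit 5, nat_lit 6, nat_lit 7, nat_lit 1, nat_lit 2, nat_lit 3, nat_lit 4, nat_lit 5, nat_lit 6, nat_lit 7, nat_lit 1, nat_lit 2, nat_lit 3, nat_lit 4, nat_lit 5, nat_lit 6, nat_lit 7, nat_lit 1, nat_lit 2, nat_lit 3, nat_lit 4, nat_lit 5, nat_lit 6, nat_lit 7, nat_lit 1, nat_lit 2, nat_lit 3, nat_lit 4, nat_lit 5, nat_lit 6, nat_lit 7, nat_lit 1, nat_lit 2, nat_lit 3, nat_lit 4, nat_lit 5, nat_lit 6, nat_lit 7, nat_lit 1, nat_lit 2, nat_lit 3, nat_lit 4, nat_lit 5, nat_lit 6, nat_lit 7, nat_lit 1, nat_lit 2, nat_lit 3, nat_lit 4, nat_lit 5, nat_lit 6, nat_lit 7, nat_lit 1, nat_lit 2, nat_lit 3, nat_lit 4]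
def Wt_98_101 (j : ℕ) : List ℕ := bif Nat.blt j 99 then [nat_lit 63, nat_lit 3, nat_lit 4, nat_lit 5, nat_lit 3, nat_lit 7, nat_lit 8, nat_lit 3, nat_lit 2, nat_lit 1, nat_lit 3, nat_lit 4, nat_lit 5, nat_lit 3, nat_lit 7, nat_lit 8, nat_lit 3, nat_lit 2, nat_lit 1, nat_lit 3, nat_lit 4, nat_lit 5, nat_lit 3, nat_lit 7, nat_lit 8, nat_lit 3, nat_lit 2, nat_lit 1, nat_lit 3, nat_lit 4, nat_lit 5, nat_lit 3, nat_lit 7, nat_lit 8, nat_lit 3, nat_lit 2, nat_lit 1, nat_lit 3, nat_lit 4, nat_lit 5, nat_lit 3, nat_lit 7, nat_lit 8, nat_lit 3, nat_lit 2, nat_lit 1, nat_lit 3, nat_lit 4, nat_lit 5, nat_lit 3, nat_lit 7, nat_lit 8, nat_lit 3, nat_lit 2, nat_lit 1, nat_lit 3, nat_lit 4, nat_lit 5, nat_lit 3, nat_lit 7, nat_lit 8, nat_lit 3, nat_lit 2, nat_lit 1, nat_lit 3, nat_lit 4, nat_lit 5, nat_lit 3, nat_lit 7, nat_lit 8, nat_lit 3, nat_lit 2, nat_lit 1, nat_lit 3, nat_lit 4, nat_lit 5, nat_lit 3, nat_lit 7, nat_lit 8, nat_lit 3, nat_lit 2, nat_lit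 1, nat_lit 3, nat_lit 4, nat_lit 5, nat_lit 3, nat_lit 7, nat_lit 8, nat_lit 3, nat_lit 2, nat_lit 1] else (Wt_99_101 j)
def Wt_101_103 (j : ℕ) : List ℕ := bif Nat.blt j 102 then [nat_lit 63, nat_lit 1, nat_lit 7, nat_lit 1, nat_lit 7] else [nat_lit 63, nat_lit 4, nat_lit 3, nat_lit 4, nat_lit 3, nat_lit 4, nat_lit 3]
def Wt_103_105 (j : ℕ) : List ℕ := bif Nat.blt j 104 then [nat_lit 7, nat_lit 6, nat_lit 5, nat_lit 4, nat_lit 3, nat_lit 2, nat_lit 1, nat_lit 7, nat_lit 6, nat_lit 5, nat_lit 4, nat_lit 3, nat_lit 2, nat_lit 1, nat_lit 7, nat_lit 6, nat_lit 5, nat_lit 4, nat_lit 3, nat_lit 2, nat_lit 1, nat_lit 7, nat_lit 6, nat_lit 5, nat_lit 4, nat_lit 3, nat_lit 2, nat_lit 1, nat_lit 7, nat_lit 6, nat_lit 5, nat_lit 4, nat_lit 3, nat_lit 2, nat_lit 1, nat_lit 7, nat_lit 6, nat_lit 5, nat_lit 4, nat_lit 3, nat_lit 2, nat_lit 1, nat_lit 7, nat_lit 6, nat_lit 5, nat_lit 4, nat_lit 3, nat_lit 2, nat_lit 1, nat_lit 7, nat_lit 6, nat_lit 5, nat_lit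 4, nat_lit 3, nat_lit 2, nat_lit 1, nat_lit 7, nat_lit 6, nat_lit 5, nat_lit 4, nat_lit 3, nat_lit 2, nat_lit 1] else [nat_lit 4, nat_lit 5, nat_lit 6, nat_lit 7, nat_lit 1, nat_lit 2, nat_lit 3, nat_lit 4, nat_lit 5, nat_lit 6, nat_lit 7, nat_lit 1, nat_lit 2, nat_lit 3, nat_lit 4, nat_lit 5, nat_lit 6, nat_lit 7, nat_lit 1, nat_lit 2, nat_lit 3, nat_lit 4, nat_lit 5, nat_lit 6, nat_lit 7, nat_lit 1, nat_lit 2, nat_lit 3, nat_lit 4, nat_lit 5, nat_lit 6, nat_lit 7, nat_lit 1, nat_lit 2, nat_lit 3, nat_lit 4, nat_lit 5, nat_lit 6, nat_lit 7, nat_lit 1, nat_lit 2, nat_lit 3, nat_lit 4, nat_lit 5, nat_lit 6, nat_lit 7, nat_lit 1, nat_lit 2, nat_lit 3, nat_lit 4, nat_lit 5, nat_lit 6, nat_lit 7, nat_lit 1, nat_lit 2, nat_lit 3, nat_lit 4, nat_lit 5, nat_lit 6, nat_lit 7, nat_lit 1, nat_lit 2, nat_lit 3]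
def Wt_101_105 (j : ℕ) : List ℕ := bif Nat.blt j 103 then (Wt_101_103 j) else (Wt_103_105 j)
def Wt_98_105 (j : ℕ) : List ℕ := bif Nat.blt j 101 then (Wt_98_101 j) else (Wt_101_105 j)
def Wt_91_105 (j : ℕ) : List ℕ := bif Nat.blt j 98 then (Wt_91_98 j) else (Wt_98_105 j)
def Wt_78_105 (j : ℕ) : List ℕ := bif Nat.blt j 91 then (Wt_78_91 j) else (Wt_91_105 j)
def Wt_52_105 (j : ℕ) : List ℕ := bif Nat.blt j 78 then (Wt_52_78 j) else (Wt_78_105 j)
def Wt_0_105 (j : ℕ) : List ℕ := bif Nat.blt j 52 then (Wt_0_52 j) else (Wt_52_105 j)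
def Wt (j : ℕ) : List ℕ := (Wt_0_105 j)
def W (j : ℕ) : List ℕ := bif Nat.blt j 105 then Wt j else []
theorem W_ge (j : ℕ) (h : 105 ≤ j) : W j = [] := by
  unfold W
  rw [blt_false_of_le h]
  rfl
def Hl : List ℕ := [nat_lit 1, nat_lit 2, nat_lit 3, nat_lit 4, nat_lit 5, nat_lit 6, nat_lit 7]
def isH (y : ℕ) : Bool := List.elem y Hl
def Rb : List (List ℕ) := [[nat_lit 1, nat_lit 1],
  [nat_lit 2, nat_lit 1, nat_lit 2, nat_lit 1, nat_lit 2, nat_lit 1],
  [nat_lit 3, nat_lit 1, nat_lit 3, nat_lit 1],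
  [nat_lit 4, nat_lit 1, nat_lit 4, nat_lit 1],
  [nat_lit 5, nat_lit 1, nat_lit 5, nat_lit 1],
  [nat_lit 6, nat_lit 1, nat_lit 6, nat_lit 1],
  [nat_lit 7, nat_lit 1, nat_lit 7, nat_lit 1],
  [nat_lit 8, nat_lit 1, nat_lit 8, nat_lit 1],
  [nat_lit 2, nat_lit 2],
  [nat_lit 3, nat_lit 2, nat_lit 3, nat_lit 2, nat_lit 3, nat_lit 2],
  [nat_lit 4, nat_lit 2, nat_lit 4, nat_lit 2],
  [nat_lit 5, nat_lit 2, nat_lit 5, nat_lit 2],
  [nat_lit 6, nat_lit 2, nat_lit 6, nat_lit 2],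
  [nat_lit 7, nat_lit 2, nat_lit 7, nat_lit 2],
  [nat_lit 8, nat_lit 2, nat_lit 8, nat_lit 2],
  [nat_lit 3, nat_lit 3],
  [nat_lit 4, nat_lit 3, nat_lit 4, nat_lit 3, nat_lit 4, nat_lit 3],
  [nat_lit 5, nat_lit 3, nat_lit 5, nat_lit 3],
  [nat_lit 6, nat_lit 3, nat_lit 6, nat_lit 3],
  [nat_lit 7, nat_lit 3, nat_lit 7, nat_lit 3, nat_lit 7, nat_lit 3],
  [nat_lit 8, nat_lit 3, nat_lit 8, nat_lit 3],
  [nat_lit 4, nat_lit 4],
  [nat_lit 5, nat_lit 4, nat_lit 5, nat_lit 4, nat_lit 5, nat_lit 4],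
  [nat_lit 6, nat_lit 4, nat_lit 6, nat_lit 4],
  [nat_lit 7, nat_lit 4, nat_lit 7, nat_lit 4],
  [nat_lit 8, nat_lit 4, nat_lit 8, nat_lit 4],
  [nat_lit 5, nat_lit 5],
  [nat_lit 6, nat_lit 5, nat_lit 6, nat_lit 5, nat_lit 6, nat_lit 5],
  [nat_lit 7, nat_lit 5, nat_lit 7, nat_lit 5],
  [nat_lit 8, nat_lit 5, nat_lit 8, nat_lit 5],
  [nat_lit 6, nat_lit 6],
  [nat_lit 7, nat_lit 6, nat_lit 7, nat_lit 6],
  [nat_lit 8, nat_lit 6, nat_lit 8, nat_lit 6],
  [nat_lit 7, nat_lit 7],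
  [nat_lit 8, nat_lit 7, nat_lit 8, nat_lit 7, nat_lit 8, nat_lit 7],
  [nat_lit 8, nat_lit 8],
  [nat_lit 8, nat_lit 7, nat_lit 3, nat_lit 5, nat_lit 4, nat_lit 3, nat_lit 1, nat_lit 2, nat_lit 3, nat_lit 8, nat_lit 7, nat_lit 3, nat_lit 5, nat_lit 4, nat_lit 3, nat_lit 1, nat_lit 2, nat_lit 3, nat_lit 8, nat_lit 7, nat_lit 3, nat_lit 5, nat_lit 4, nat_lit 3, nat_lit 1, nat_lit 2, nat_lit 3, nat_lit 8, nat_lit 7, nat_lit 3, nat_lit 5, nat_lit 4, nat_lit 3, nat_lit 1, nat_lit 2, nat_lit 3, nat_lit 8, nat_lit 7, nat_lit 3, nat_lit 5, nat_lit 4, nat_lit 3, nat_lit 1, nat_lit 2, nat_lit 3, nat_lit 8, nat_lit 7, nat_lit 3, nat_lit 5, nat_lit 4, nat_lit 3, nat_lit 1, nat_lit 2, nat_lit 3, nat_lit 8, nat_lit 7, nat_lit 3, nat_lit 5, nat_lit 4, nat_lit 3, nat_lit 1, nat_lit 2, nat_lit 3, nat_lit 8, nat_lit 7, nat_lit 3, nat_lit 5, nat_lit 4, nat_lit 3, nat_lit 1, nat_lit 2, nat_lit 3, nat_lit 8, nat_lit 7, nat_lit 3, nat_lit 5, nat_lit 4, nat_lit 3,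 nat_lit 1, nat_lit 2, nat_lit 3, nat_lit 8, nat_lit 7, nat_lit 3, nat_lit 5, nat_lit 4, nat_lit 3, nat_lit 1, nat_lit 2, nat_lit 3],
  [nat_lit 7, nat_lit 6, nat_lit 5, nat_lit 4, nat_lit 3, nat_lit 2, nat_lit 1, nat_lit 7, nat_lit 6, nat_lit 5, nat_lit 4, nat_lit 3, nat_lit 2, nat_lit 1, nat_lit 7, nat_lit 6, nat_lit 5, nat_lit 4, nat_lit 3, nat_lit 2, nat_lit 1, nat_lit 7, nat_lit 6, nat_lit 5, nat_lit 4, nat_lit 3, nat_lit 2, nat_lit 1, nat_lit 7, nat_lit 6, nat_lit 5, nat_lit 4, nat_lit 3, nat_lit 2, nat_lit 1, nat_lit 7, nat_lit 6, nat_lit 5, nat_lit 4, nat_lit 3, nat_lit 2, nat_lit 1, nat_lit 7, nat_lit 6, nat_lit 5, nat_lit 4, nat_lit 3, nat_lit 2, nat_lit 1, nat_lit 7, nat_lit 6, nat_lit 5, nat_lit 4, nat_lit 3, nat_lit 2, nat_lit 1, nat_lit 7, nat_lit 6, nat_lit 5, nat_lit 4, nat_lit 3, nat_lit 2, nat_lit 1],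
  []]
def spT_0_2 (j : ℕ) : ℕ := bif Nat.blt j 1 then nat_lit 0x100000000000002048000060480000604a0000c04b0000a04a0000004b0000200600002036000000440000202c00002014000000020000001800000026000020400000203e000000360000002e000000240000000a0000001600002020000000120000203a000020380000002c0000002200000008000000140000200e0000200c0000200a00002008000020040000200200002032000020300000202e00000020000000060000201c0000201a0000201800002016000020120000202800002026000020240000202200000004000020440000003e00000038000000300000001a0000000c000000400000003a00000032000000280000001c0000000e else nat_lit 0x804b0000204a000000200000200c0000a04b000000260000604900000042000000340000002a0000004600000042000000460000003c0000000000000042000000340000003c0000002a00000034000000420000001e0000001e00000000000000100000001e000000100000002a0000003c0000004600000034000000100000002a0000004c000000420000001e000000460000003c00000034000000000000002a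
def spT (j : ℕ) : ℕ := (spT_0_2 j)
def sp (j : ℕ) : ℕ := Nat.land (Nat.shiftRight (spT (Nat.shiftRight j 6)) (Nat.mul (Nat.land j 63) 32)) 4294967295
theorem Eo_lt (r : ℕ) : Eo r < 18014398509481984 := land54_lt _
def cT_1_3 (j : ℕ) : ℕ := bif Nat.blt j 2 then nat_lit 0xff0000fe0000fd0000fc0000fb0000fa0000f90000f80000f70000f60000f50000f40000f30000f20000f10000f00000ef0000ee0000ed0000ec0000eb0000ea0000e90000e80000e70000e60000e50000e40000e30000e20000e10000e00000df0000de0000dd0000dc0000db0000da0000d90000d80000d70000d60000d50000d40000d30000d20000d10000d00000cf0000ce0000cd0000cc0000cb0000ca0000c90000c80000c70000c60000c50000c40000c30000c20000c10000c00000bf0000be0000bd0000bc0000bb0000ba0000b90000b80000b70000b60000b50000b40000b30000b20000b10000b00000af0000ae0000ad0000ac0000ab0000aa0000a90000a80000a70000a60000a50000a40000a30000a20000a10000a000009f00009e00009d00009c00009b00009a00009900009800009700009600009500009400009300009200009100009000008f00008e00008d00008c00008b00008a000089000088000087000086000085000084000083000082000081000080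 else nat_lit 0x18700018600018500018100018000017f00017e00017d00017c00017b00017a00017900017800017500017400017300017200017100017000016f00016e00016d00016c00016b00016a00016900016800016700016600016500016400016300016200016100016000015f00015e00015d00015c00015b00015a00015900015800015700015600015500015400015300015200015100015000014f00014e00014d00014c00014b00014a00014900014800014700014600014500014400014300014200014100014000013f00013e00013d00013c00013b00013a00013900013800013700013600013500013400013300013200013100013000012c00012b00012a00012900012800012700012600012500012400012300012200012100012000011f00011e00011d00011c00011b00011a00011900011800011700011600011500011400011300011200011100011000010f00010e00010d00010c00010b00010a000109000108000107000106000105000104000103000102000101000100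
def cT_0_3 (j : ℕ) : ℕ := bif Nat.blt j 1 then nat_lit 0x7f00007e00007d00007c00007b00007a00007900007800007700007600007500007400007300007200007100007000006f00006e00006d00006c00006b00006a00006900006800006700006600006500006400006300006200006100006000005f00005e00005d00005c00005b00005a00005900005800005700005600005500005400005300005200005100005000004f00004e00004d00004c00004b00004a00004900004800004700004600004500004400004300004200004100004000003f00003e00003d00003c00003b00003a00003900003800003700003600003500003400003300003200003100003000002f00002e00002d00002c00002b00002a00002900002800002700002600002500002400002300002200002100002000001f00001e00001d00001c00001b00001a00001900001800001700001600001500001400001300001200001100001000000f00000e00000d00000c00000b00000a000009000008000007000006000005000004000003000002000001000000 else (cT_1_3 j)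
def cT_4_6 (j : ℕ) : ℕ := bif Nat.blt j 5 then nat_lit 0x2c00002bf0002be0002bd0002bc0002bb0002ba0002b90002b80002b70002b60002b50002b40002b30002b20002b10002b00002af0002ae0002ad0002ac0002ab0002aa0002a90002a80002a70002a60002a50002a40002a30002a200029e00029800029700029600029500029400029300029100029000028f00028e00028d00028500028200028100028000027f00027800027700027400027200027100027000026f00026e00026d00026c00026b00026a00026900026800026700026600026500026400026300026200026100026000025f00025e00025d00025c00025b00025a00025900025800025700025600025500025400025300025200025100025000024f00024e00024d00024900024800024700024600024500024400024300024200024100024000023f00023e00023d00023c00023b00023a00023900023800023700023600023500023400023300023200023100023000022f00022e00022d00022c00022b00022a000229000228000227000226000225000224000223 else nat_lit 0x37300037200037100037000036f00036e00036d00036c00036b00036a00036900036800036700036600036500036100035e00035d00035b00035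a00035900035600035400035300035200035100035000034400034300034200034100032e00032d00032c00032b00032900032700032600032500032400032300032200032100032000031e00031d00031c00031b00031a00031900031800031700031600031500031400031300031200031100031000030f00030e00030d00030c00030b00030a0003090003080003070003060003050003040003030003020003010003000002ff0002f80002f70002f40002f30002f20002f10002f00002ef0002ee0002ed0002ea0002e90002e80002e70002e60002e50002e40002e30002e20002e10002e00002df0002de0002dd0002dc0002db0002da0002d90002d80002d70002d60002d50002d40002d30002d20002d10002d00002cf0002ce0002cd0002cc0002cb0002ca0002c90002c80002c70002c60002c50002c40002c30002c20002c1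
def cT_3_6 (j : ℕ) : ℕ := bif Nat.blt j 4 then nat_lit 0x22200022100022000021f00021e00021d00021c00021b00021a00021900021800021700021600021500021400021300021200021100021000020f00020e00020d00020c00020b0002040002030002010001fe0001fd0001fc0001fb0001fa0001f90001f80001f70001f60001f50001f20001ed0001ec0001eb0001ea0001e90001e80001e40001e30001e20001e10001e00001df0001de0001dd0001dc0001db0001da0001d90001d80001d70001d60001d50001d40001d30001d20001d10001d00001cf0001ce0001cd0001cc0001cb0001ca0001c90001c80001c70001c60001c50001c40001c30001c20001c10001c00001bf0001be0001bd0001bc0001bb0001ba0001b90001b80001b70001b60001b50001b40001b30001b20001b10001b00001af0001ae0001ad0001ac0001ab0001aa0001a90001a80001a70001a60001a50001a40001a30001a20001a10001a000019f00019e00019d00019c00019b00019a000199000198000197000196000195000194000193000189000188 else (cT_4_6 j)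
def cT_0_6 (j : ℕ) : ℕ := bif Nat.blt j 3 then (cT_0_3 j) else (cT_3_6 j)
def cT_7_9 (j : ℕ) : ℕ := bif Nat.blt j 8 then nat_lit 0x4ca0004c90004c80004c20004c10004c00004bf0004be0004bd0004bb0004ba0004b90004b80004b70004b60004b50004b40004b30004b00004ae0004ad0004ac0004ab0004aa0004a90004a80004a70004a60004a50004a40004a30004a20004a10004a000049f00049e00049d00049c00049b00049a00049900049800049700049600049500049400049300049200049100049000048f00048e00048d00048c00048b00048a00048900048800048700048600048500048400048300048200048100048000047f00047e00047d00047c00047b00047a00047900047800047700047600047500047400047300047200047100047000046f00046e00046d00046c00046b00046a00046900046800046700046600046500046400046300046200046100046000045f00045e00045d00045c00045b00045a00045700045500045300045200045000044f00044d00044b00044900044800044700043800043700043500041d00041700041600041500041400041300041200040f00040d00040c else nat_lit 0x5b70005b60005b50005b40005b30005b20005b1000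5b00005af0005ae0005ad0005ac0005ab0005aa0005a90005a80005a70005a60005a50005a40005a30005a20005a10005a000059f00059e00059d00059c00059b00059a00059900059800059700059600059500059400059300059200059100059000058f00058e00058d00058c00058b00058a00058900058800058700058600058100058000057e00057d00057900057500056400056300056200056100054300053b00053a00053900053100053000052f00052e00052d00052c00052b00052900052800052700052600052500052400052300052200052100052000051f00051e00051d00051c00051b00051a00051900051800051700051600051400051300051200051100051000050f00050e00050d00050c00050b00050a0005090005080005070005060005050005040005030005020005010004f10004e80004e70004d80004d70004d60004d50004d40004d30004d20004d10004d00004cf0004ce0004cd0004cc0004cb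
def cT_6_9 (j : ℕ) : ℕ := bif Nat.blt j 7 then nat_lit 0x40b00040a0004090004080004070004060004050004040004030004020004010004000003ff0003fe0003fd0003fc0003fb0003fa0003f90003f80003f70003f60003f50003f40003f30003f20003f10003f00003ef0003ee0003ed0003ec0003eb0003ea0003e90003e80003e70003e60003d80003d70003d40003d30003d20003d10003ca0003c90003c80003c70003c60003c50003c40003c30003c20003c10003c00003bf0003be0003bd0003bc0003bb0003ba0003b80003b60003b50003b40003b30003b20003b10003b00003af0003ae0003ad0003ac0003ab0003aa0003a90003a80003a60003a50003a40003a30003a20003a10003a000039f00039e00039d00039c00039b00039a00039900039800039700039600039500039400039300039200039100039000038f00038e00038d00038c00038b00038a00038900038800038700038600038500038400038300038200038100038000037f00037e00037d00037c00037b00037a000379000378000377000376000375000374 else (cT_7_9 j)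
def cT_10_12 (j : ℕ) : ℕ := bif Nat.blt j 11 then nat_lit 0x77200077100077000076f00076e00076500076400075f00075e00075d00075c00075b00075a00075900075800075700075500075400075300075200075100075000074f00074e00074d00074a00074900074800074700074600074500074400074300074200074100074000073f00073e00073d00073c00073b00073a00073900073800073700073600073500073400073300073200073100073000072f00072e00072900072800072700072600072500072400072300072200072100072000071f00071e00071d00071c00071b00071a00071900071800071700071600071500071400071300071200071100071000070f00070e00070d00070c00070b00070a0007090007080007070007060007050007040007030007020007010007000006ff0006fe0006fd0006fc0006fb0006fa0006f90006f80006f70006f60006f50006f40006f30006f20006f10006f00006ef0006ee0006ed0006ec0006eb0006ea0006e90006e80006e70006e60006e40006e00006df0006ca0006c90006c8 else nat_lit 0x8b80008b70008b60008b50008b40008b30008b20008b10008b00008af0008ae0008ad0008ac0008ab0008aa0008a90008a80008a70008a600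08a50008a40008a30008a20008a10008a000089f00089e00089d00089c00089b00089a00089900089800089700089600089500089400089300089200089100089000088f00088e00088d00088c00088b00088a00088900088800088700088600088400088200088100087100087000084000083f00082e00082d00082700082600082500082400082300082200082100081e00081d00081c00081b00081a00081900081800081700081600081500081400081300081200081100081000080f00080e00080d00080c00080b00080a0008070008060008040008030008020008010008000007ff0007fe0007fc0007fb0007fa0007f90007f80007f70007f60007f50007f40007f30007f20007f10007ef0007ed0007ec0007eb0007ea0007e90007e80007c000079e00079300078f00078600078500077d00077b000779000778000777000773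
def cT_9_12 (j : ℕ) : ℕ := bif Nat.blt j 10 then nat_lit 0x6a600069d00069c00068d00068c00068a00068900068600068500068400068300068200068100068000067f00067e00067d00067c00067b00067a00067900067800067700067600067500067400067300067200067100067000066f00066e00066c00066b00066a00066900066800066700066600066500066400066300066200066100066000065f00065e00065d00065c00065b00065900065800065700065600065500065400063200061800061700061400061200061100060f00060e00060b00060a0006020006010006000005fc0005fb0005fa0005f90005f80005f70005f60005f40005f30005f20005f10005eb0005ea0005e90005e80005e70005e60005e40005e30005e20005e10005e00005df0005de0005dd0005dc0005db0005da0005d90005d80005d70005d60005d40005d30005d20005d10005d00005cf0005ce0005cd0005cc0005cb0005ca0005c90005c80005c70005c60005c50005c40005c30005c20005c10005c00005bf0005be0005bb0005ba0005b90005b8 else (cT_10_12 j)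
def cT_6_12 (j : ℕ) : ℕ := bif Nat.blt j 9 then (cT_6_9 j) else (cT_9_12 j)
def cT_0_12 (j : ℕ) : ℕ := bif Nat.blt j 6 then (cT_0_6 j) else (cT_6_12 j)
def cT_13_15 (j : ℕ) : ℕ := bif Nat.blt j 14 then nat_lit 0xac1000ac0000abf000abe000abd000abc000abb000aba000ab9000ab8000ab7000ab6000ab5000ab4000ab3000ab2000ab1000ab0000aaf000aae000aad000aac000aab000aaa000aa9000aa8000aa7000aa6000aa5000aa4000aa3000aa2000aa1000aa0000a9f000a9e000a9d000a9c000a9b000a9a000a99000a98000a97000a96000a95000a94000a93000a92000a91000a90000a8f000a8e000a8d000a8c000a8b000a8a000a89000a88000a87000a86000a85000a84000a83000a82000a81000a80000a7f000a7e000a7d000a7c000a7b000a7a000a79000a78000a77000a76000a75000a74000a73000a72000a71000a70000a6f000a6e000a6d000a6c000a69000a67000a5e000a5d000a2d000a1d000a15000a14000a11000a10000a0f000a09000a08000a07000a06000a04000a03000a02000a01000a000009ff0009fe0009fd0009fc0009fb0009fa0009f90009f80009f70009f60009f40009f30009f20009f10009f00009ec0009ea0009e90009e70009e60009e50009e3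 else nat_lit 0xc1c000c18000c16000c15000c12000c0f000c0e000c0d000c0c000c0a000c09000c08000c06000c05000c04000c03000c02000c01000bfd000bfb000bfa000bf8000bf7000bf6000bf5000bf4000b77000b67000b66000b64000b5b000b5a000b59000b58000b57000b53000b51000b50000b3d000b3b000b3a000b39000b38000b37000b36000b2f000b2e000b2c000b2a000b29000b28000b27000b26000b25000b24000b23000b1b000b1a000b17000b16000b15000b0f000b0e000b0d000b0c000b0b000b0a000b09000b08000b07000b06000b05000b04000b03000b02000b01000b00000aff000afe000afd000afc000afa000af9000af8000af7000af6000af5000af4000af3000af2000af1000af0000aef000aee000aed000aec000ae7000ae5000ae4000ae2000ae1000ae0000adc000adb000ada000ad9000ad8000ad6000ad5000ad4000ad3000ad2000ad1000ad0000acf000ace000acd000acc000acb000aca000ac9000ac8000ac7000ac6000ac5000ac4000ac3000ac2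
def cT_12_15 (j : ℕ) : ℕ := bif Nat.blt j 13 then nat_lit 0x9e10009df0009dd0009dc0009db0009da0009d90009d80009d70009d60009d50009d40009d30009d00009ce0009cc0009cb0009ca0009c90009c80009c700097100095a00095900094d00094800094700094000093f00093e00093d00093b00093a00093900093800092700092500092400092200092100092000091f00091e00091900091800091700091600091500091400091300091200091100091000090f0009090009080009070009060009050009040009030009000008ff0008fe0008fd0008fc0008fb0008fa0008f90008f80008f70008f60008f50008f40008f30008f20008f10008f00008ef0008ee0008ed0008ec0008eb0008ea0008e90008e80008e70008e60008e50008e00008df0008dd0008dc0008db0008da0008d90008d80008d70008d60008d50008d40008d30008d20008d10008d00008cf0008ce0008cd0008cc0008cb0008ca0008c90008c80008c70008c60008c50008c40008c30008c20008c10008c00008bf0008be0008bd0008bc0008bb0008ba0008b9 else (cT_13_15 j)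
def cT_16_18 (j : ℕ) : ℕ := bif Nat.blt j 17 then nat_lit 0xe99000e94000e93000e92000e90000e8f000e8e000e8d000e8b000e8a000e89000e88000e86000e85000e84000e80000e7d000e7b000e7a000e78000e77000e76000dc8000dc7000dc5000dc3000dc2000dc1000db8000da3000da2000da0000d9f000d9e000d92000d8f000d8e000d8d000d8b000d8a000d89000d88000d87000d7e000d7c000d7b000d70000d6f000d6e000d6d000d6c000d6b000d6a000d69000d68000d67000d66000d65000d64000d63000d62000d61000d60000d5f000d5e000d5d000d5c000d5b000d5a000d59000d54000d53000d51000d50000d4f000d4e000d4d000d4c000d4b000d4a000d49000d48000d47000d46000d45000d44000d43000d41000d3d000d39000d37000d36000d30000d2d000d2c000d2a000d29000d28000d27000d25000d24000d23000d21000d20000d1f000d1e000d1d000d1c000d1b000d19000d18000d17000d16000d15000d14000d13000d12000d11000d10000d0f000d0e000d0d000d0c000d0b000d0a000d09000d08000d07 else nat_lit 0xf7f000f7e000f7d000f7c000f7b000f7a000f79000f78000f77000f76000f75000f74000f73000f72000f71000f70000f6f000f6e000f6d00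0f6c000f6b000f6a000f69000f68000f67000f66000f65000f64000f63000f62000f61000f60000f5f000f5e000f5d000f5c000f5b000f5a000f59000f58000f53000f52000f51000f50000f4f000f4e000f4d000f4c000f4b000f4a000f49000f48000f47000f46000f45000f44000f43000f42000f41000f40000f3f000f3e000f3d000f3c000f3b000f3a000f39000f38000f37000f36000f35000f34000f33000f32000f31000f30000f2f000f2e000f2d000f2c000f2b000f2a000f29000f28000f27000f26000f25000f24000f23000f22000f21000f20000f1f000f1e000f1d000f1c000f1b000f1a000f19000f18000eda000ed1000ecb000eca000ec9000ec6000ec4000ec3000ec2000ec1000ec0000ebf000ebe000ebd000ebc000ebb000eba000eb9000eb8000eb7000eb6000eb5000ead000eab000ea8000ea7000ea3000e9f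
def cT_15_18 (j : ℕ) : ℕ := bif Nat.blt j 16 then nat_lit 0xd06000d05000d04000d03000d02000d01000d00000cfe000cfd000cfc000cfb000cfa000cf9000cf8000cf7000cf6000cf5000cf4000cf3000cf2000cf1000cf0000cef000cee000ced000cec000ceb000cea000ce9000ce8000ce7000ce6000ce5000ce4000ce3000ce2000ce1000ce0000cdf000cde000cdd000cdc000cdb000cda000cd9000cd8000cd7000cd6000cd5000cd4000ccf000cce000ccd000ccc000ccb000cca000cc9000cc8000cc7000cc6000cc5000cc4000cc3000cc2000cc1000cc0000cbf000cbe000cbd000cbc000cbb000cba000cb9000cb8000cb7000cb6000cb5000cb4000cb3000cb2000cb1000cb0000caf000cae000cad000cac000cab000caa000ca9000ca8000ca7000ca6000ca5000ca4000ca3000ca2000ca1000ca0000c4e000c4c000c4b000c41000c40000c3f000c3d000c3c000c3b000c3a000c39000c38000c36000c35000c34000c33000c32000c31000c30000c2f000c2e000c2d000c2c000c2b000c2a000c25000c24000c22000c21000c20 else (cT_16_18 j)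
def cT_12_18 (j : ℕ) : ℕ := bif Nat.blt j 15 then (cT_12_15 j) else (cT_15_18 j)
def cT_19_21 (j : ℕ) : ℕ := bif Nat.blt j 20 then nat_lit 0x122200122100122000121f00121e00121d00121c00121b00121a00121900121800121700121600121500121400121300121200121100121000120f00120e00120d00120c00120b00120a0012090012080012070011fd0011fc0011fb0011fa0011f90011f80011f70011f60011f50011f40011f30011f20011f10011f00011eb0011ea0011e90011e80011e70011e60011e50011e40011e30011e20011e10011e00011df0011de0011dd0011dc0011db0011da0011d90011d80011d70011d60011d50011d40011d30011d20011d10011d00011cf0011ce0011cd0011cc0011cb0011ca0011c90011c80011c70011c60011c50011c40011c30011c20011c10011c00011bf0011be0011bd0011bc0011bb0011ba0011b90011b80011b70011b60011b500116d00116a00116800116700116600116400116300116200116100115d00115c00115b00115a00115900115800114c00114a00114500113f00113b00113a00113900113800113400113300113200113100112e00112d00112c00112b else nat_lit 0x13fa0013f60013f50013f40013f2001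3f00013eb0013e90013e40013e30013e20013010012fd0012fc0012ee0012e80012e60012e40012e10012df0012de0012dd0012db0012da0012d90012d80012d40012d30012d20012d10012d00012cf0012c20012c00012be0012bd0012bc0012bb0012ba0012b90012b80012b70012b60012b50012b40012b30012b20012b10012b00012af0012ab0012a80012a100129200128e00128d00128c00128b00128700128600128500128400128100127f00127e00127d00127800127700127600127300127100126f00126d00126b00126a00126600126400126200126000125f00125e00125d00125b00125a00125900125800125700125600125500125400125300125200125100125000124f00124e00124900124600124500124400124300124200124100124000123f00123e00123d00123b00123a00123900123800123700123600123500123300123200123100122d00122c00122b00122a001229001228001227001226001225001224001223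
def cT_18_21 (j : ℕ) : ℕ := bif Nat.blt j 19 then nat_lit 0x112a00112900112800112700112400112200112000111f00111c00111a00111900111800111700106400106300106100103f00103e00103100103000102e00102d00102b00102a00102900102200101800101600101200101100101000100f00100e00100d00100b00100a001009001008001007001006001005001004001003001002001001001000000fff000ffe000ffd000ffc000ff5000ff3000ff0000fef000fee000fed000fec000feb000fea000fe9000fe8000fe7000fe6000fe5000fe4000fe3000fe2000fdf000fde000fdc000fd7000fd3000fc8000fc7000fc2000fc1000fc0000fbe000fbd000fbc000fbb000fb9000fb8000fb7000fb6000fb4000fb3000fb2000fb1000faf000fae000fac000fab000faa000fa8000fa7000fa6000fa4000fa2000fa1000fa0000f9f000f9e000f9d000f9b000f9a000f99000f98000f97000f96000f94000f93000f92000f91000f90000f8d000f8b000f8a000f89000f88000f87000f86000f85000f84000f83000f82000f81000f80 else (cT_19_21 j)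
def cT_21_23 (j : ℕ) : ℕ := bif Nat.blt j 22 then nat_lit 0x150a0015090015040015030015020015010014fc0014fb0014fa0014f90014f80014f70014f60014f50014f40014ef0014ee0014ed0014ec0014eb0014ea0014e90014e80014e60014e50014e40014e30014e20014e10014e00014df0014de0014dd0014dc0014db0014da0014d90014d80014d70014d60014d10014d00014cf0014ce0014cd0014c90014c80014c70014c60014c50014c40014bf0014be0014bd0014bc0014b90014b80014b70014b60014b50014b40014af0014ae0014ad0014ac0014ab0014aa0014a90014a80014a70014a60014a50014a40014a30014a20014a10014a000149f00149e00149d00149c00149b00149a00149900149800149700149600149500149400149300149200148d00148c00148b00148a00148900148800148300148200148100148000147f00147e00147d00147c00147b00147a00147900147800143a00143500143200143100142d00142900142800142700142600142500141a0014100014080014070014040014030013fe0013fc0013fb else nat_lit 0x176100176000175f00175a00175900175800175700175600175200175100175000174f00174e00174d001748001747001746001745001744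00174300173e00173d00173c00173b00173a00173900173400173300173200173100173000172a0017290017250017240017230017220017210017200016ee0016ed0016e60016e50016e40016e30016d90016cc0016cb0016ca0016c20016c00016b90016b80016b60016b50016ae0016a80016a70015dd0015d40015cc0015c80015c30015c00015bf0015be0015bb0015b70015b60015b50015b40015b30015a400159d00159c00159b00159900159800159700159300159200159100159000158f00158e00157500156c00156b00156800156700156300156100156000155f00155a00155900155500155000154d00154200154000153e00153d00153700153600153500153100153000152f00152b00152a00152900151e00151d00151c00151b00151a00151900151800151700151400151300151100151000150f00150e00150d00150c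
def cT_23_25 (j : ℕ) : ℕ := bif Nat.blt j 24 then nat_lit 0x198300198100198000197f00197d00197900197500197400197300197200197100196c00196b00196a00196900196800196100196000195f00195e00195d00195c00195a00195600194c00194b00194a00194900194800193500192d00192500191f00191e00191c00191000190d00190c00190300185500184900184800184500184100184000183f00183e00183a00183000182500182400182300181f00181e00181d00181c00181b0018080018070018060018010017fe0017f20017e60017e50017e30017d90017d80017d30017d20017cb0017ca0017c20017c10017c00017bf0017bd0017ba0017b80017b70017b60017b40017b30017b10017b00017ae0017aa0017a40017a30017a20017a10017a000179f00179e00179d00179700179600179500179400179300178f00178e00178c00178b00178a00178900178800178700178200178100178000177f00177e00177d00177c00177b00177a00177900177800177600176f00176e00176d00176c00176b001766001763001762 else nat_lit 0x1ab7001ab6001ab5001ab4001ab3001ab2001ab1001ab0001aaf001aae001aad001aac001aab001aaa001aa9001aa8001aa7001aa6001aa5001aa4001aa3001aa2001aa1001aa0001a9f001a9e001a9d001a9c001a9b001a9a001a99001a98001a97001a96001a95001a3a001a2f001a2e001a24001a17001a16001a14001a10001a0b001a0a001a080019fb0019fa0019e80019e20019da0019d70019d50019d30019cc0019ca0019c80019c20019c10019bf0019bd0019ba0019b90019b70019b60019b40019b00019ac0019aa0019a90019a80019a60019a500199f00199e00199d00199c00199b00199a00199900199800199600199500199000198d001989001986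
def cT_21_25 (j : ℕ) : ℕ := bif Nat.blt j 23 then (cT_21_23 j) else (cT_23_25 j)
def cT_18_25 (j : ℕ) : ℕ := bif Nat.blt j 21 then (cT_18_21 j) else (cT_21_25 j)
def cT_12_25 (j : ℕ) : ℕ := bif Nat.blt j 18 then (cT_12_18 j) else (cT_18_25 j)
def cT_0_25 (j : ℕ) : ℕ := bif Nat.blt j 12 then (cT_0_12 j) else (cT_12_25 j)
def cT (j : ℕ) : ℕ := (cT_0_25 j)
noncomputable def cChunk (h : ℕ) : ℕ := Nat.rec (motive := fun _ => ℕ) (cT 0) (fun n _ => cT (Nat.succ n)) h
noncomputable def cF (i : ℕ) : ℕ := Nat.land (Nat.shiftRight (cChunk (Nat.shiftRight i 7)) (Nat.mul (Nat.land i 127) 24)) 16777215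
theorem cF_lt (i : ℕ) : cF i < 16777216 := land24_lt _
theorem cF_zero : cF 0 = 0 := by decide +kernel
def nDef : ℕ := 6839
def nEv : ℕ := 25811
def nW : ℕ := 105
def N : ℕ := 3159
def ys : List ℕ := [nat_lit 1, nat_lit 2, nat_lit 3, nat_lit 4, nat_lit 5, nat_lit 6, nat_lit 7, nat_lit 8]
def Js : List ℕ := [nat_lit 1, nat_lit 2, nat_lit 3, nat_lit 4, nat_lit 5, nat_lit 6, nat_lit 7, nat_lit 8]
def Jp : List ℕ := [nat_lit 1, nat_lit 2, nat_lit 3, nat_lit 4, nat_lit 5, nat_lit 6, nat_lit 7]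
end Cfsg.Agent.Lib.ToddCox.Fi22C1
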